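import Groth.Prelude.Def_ega3
import Mathlib.Algebra.Homology.HomotopyCategory.ShortExact
import Mathlib.Algebra.Homology.ShortComplex.ModuleCat
import Mathlib.RingTheory.Regular.RegularSequence
import Mathlib.Tactic

/-!
# Koszul complexes by iterated cones: homotopies, top degree, regular sequences
-/

universe u

open CategoryTheory CategoryTheory.Limits CochainComplex CochainComplex.HomComplex

namespace Groth.Agent.Koszul15

variable {A : Type u} [CommRing A]

local notation "K(" fs ", " M ")" => CohIII.koszulCx M fs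

section Cone

variable {C : Type*} [Category C] [Preadditive C] [CategoryTheory.Linear A C] [HasBinaryBiproducts C]
variable (K : CochainComplex C ℤ) (f a : A)

theorem ofHom_smul' {F G : CochainComplex C ℤ} (r : A) (φ : F ⟶ G) :
    Cochain.ofHom (r • φ) = r • Cochain.ofHom φ := by
  ext p; simp

/-- Multiplication by `f` on its own cone is null-homotopic. -/
noncomputable def coneSelfHomotopy :
    Homotopy (f • 𝟙 (mappingCone (f • 𝟙 K))) 0 :=
  mappingCone.descHomotopy _ _ _ 0 (mappingCone.inl (f • 𝟙 K))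
    (by simp [ofHom_smul' (A := A)])
    (by simp [mappingCone.δ_inl])

/-- A null-homotopy of `a` on `K` extends to the cone of multiplication by `f`. -/
noncomputable def coneHomotopy (H : Homotopy (a • 𝟙 K) 0) :
    Homotopy (a • 𝟙 (mappingCone (f • 𝟙 K))) 0 :=
  mappingCone.descHomotopy _ _ _
    (-((Cochain.equivHomotopy _ _ H).1.comp (mappingCone.inl (f • 𝟙 K)) (show (-1 : ℤ) + (-1) = -2 by norm_num)))
    ((Cochain.equivHomotopy _ _ H).1.comp (Cochain.ofHom (mappingCone.inr (f • 𝟙 K))) (add_zero (-1)))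
    (by
      generalize Cochain.equivHomotopy _ _ H = z
      obtain ⟨h, hh⟩ := z
      simp only [Cochain.ofHom_zero, add_zero] at hh
      rw [δ_neg, δ_comp h (mappingCone.inl (f • 𝟙 K)) (show (-1 : ℤ) + (-1) = -2 by norm_num) 0 0 (-1) (by norm_num)
        (by norm_num) (by norm_num), ← hh, mappingCone.δ_inl]
      simp [Int.negOnePow_neg, ofHom_smul' (A := A), Linear.smul_comp, Linear.comp_smul]
      )
    (by
      generalize Cochain.equivHomotopy _ _ H = z
      obtain ⟨h, hh⟩ := z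
      simp only [Cochain.ofHom_zero, add_zero] at hh
      rw [δ_comp_ofHom, ← hh]
      simp [ofHom_smul' (A := A), Linear.smul_comp, Linear.comp_smul])

theorem coneMap_smul (φ : K ⟶ K) (r : A) (h : φ ≫ (r • 𝟙 K) = (r • 𝟙 K) ≫ φ) :
    mappingCone.map φ φ (r • 𝟙 K) (r • 𝟙 K) h = r • 𝟙 (mappingCone φ) := by
  apply HomologicalComplex.hom_ext
  intro n
  rw [mappingCone.ext_from_iff _ (n + 1) n rfl]
  simp [mappingCone.map, HomologicalComplex.smul_f_apply, Linear.smul_comp, Linear.comp_smul]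

theorem coneMap_comp_zero {K₁ L₁ K₂ L₂ K₃ L₃ : CochainComplex C ℤ} (φ₁ : K₁ ⟶ L₁) (φ₂ : K₂ ⟶ L₂) (φ₃ : K₃ ⟶ L₃)
    (p : K₁ ⟶ K₂) (q : L₁ ⟶ L₂) (h : φ₁ ≫ q = p ≫ φ₂) (p' : K₂ ⟶ K₃) (q' : L₂ ⟶ L₃) (h' : φ₂ ≫ q' = p' ≫ φ₃)
    (hp : p ≫ p' = 0) (hq : q ≫ q' = 0) :
    mappingCone.map φ₁ φ₂ p q h ≫ mappingCone.map φ₂ φ₃ p' q' h' = 0 := by
  apply HomologicalComplex.hom_ext
  intro n
  rw [mappingCone.ext_from_iff _ (n + 1) n rfl]
  have hp' : p.f (n + 1) ≫ p'.f (n + 1) = 0 := by rw [← HomologicalComplex.comp_f, hp]; rfl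
  have hq' : q.f n ≫ q'.f n = 0 := by rw [← HomologicalComplex.comp_f, hq]; rfl
  simp [mappingCone.map, reassoc_of% hp', reassoc_of% hq']

end Cone

/-- Elements of the ideal of the sequence act null-homotopically. -/
theorem homotopy_of_mem (M : ModuleCat.{u} A) :
    ∀ (fs : List A) (a : A), a ∈ Ideal.span {x | x ∈ fs} → Nonempty (Homotopy (a • 𝟙 K(fs, M)) 0) := by
  intro fs
  induction fs with
  | nil =>
    intro a ha
    have ha' : a = 0 := by simpa using ha
    subst ha'
    exact ⟨Homotopy.ofEq (zero_smul _ _)⟩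
  | cons f fs ih =>
    intro a ha
    have he : {x | x ∈ f :: fs} = insert f {x | x ∈ fs} := by ext; simp
    rw [he, Ideal.mem_span_insert] at ha
    obtain ⟨c, b, hb, rfl⟩ := ha
    obtain ⟨H⟩ := ih b hb
    exact ⟨((Homotopy.ofEq (by rw [add_smul, mul_smul]; rfl)).trans
      (((coneSelfHomotopy K(fs, M) f).smul c).add (coneHomotopy K(fs, M) f b H))).trans
        (Homotopy.ofEq (by rw [smul_zero, add_zero]; rfl))⟩

/-- Functoriality in the module. -/
noncomputable def kmap {M M' : ModuleCat.{u} A} (g : M ⟶ M') : ∀ fs : List A, K(fs, M) ⟶ K(fs, M')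
  | [] => (HomologicalComplex.single _ _ 0).map g
  | f :: fs => mappingCone.map (f • 𝟙 K(fs, M)) (f • 𝟙 K(fs, M')) (kmap g fs) (kmap g fs)
      (by simp [Linear.smul_comp, Linear.comp_smul])

theorem kmap_smul {M : ModuleCat.{u} A} (r : A) : ∀ fs : List A, kmap (r • 𝟙 M) fs = r • 𝟙 K(fs, M) := by
  intro fs
  induction fs with
  | nil =>
    show (HomologicalComplex.single _ _ 0).map (r • 𝟙 M) = r • 𝟙 ((HomologicalComplex.single _ _ 0).obj M)
    apply HomologicalComplex.to_single_hom_ext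
    simp [HomologicalComplex.single_map_f_self]
  | cons f fs ih =>
    show mappingCone.map _ _ _ _ _ = r • 𝟙 (mappingCone _)
    simp only [ih]
    exact coneMap_smul _ _ _ _

theorem isZero_X (M : ModuleCat.{u} A) :
    ∀ (fs : List A) (n : ℤ), 0 < n ∨ n < -(fs.length : ℤ) → IsZero (K(fs, M).X n) := by
  intro fs
  induction fs with
  | nil =>
    intro n hn
    exact HomologicalComplex.isZero_single_obj_X _ _ _ _ (by simp at hn; omega)
  | cons f fs ih =>
    intro n hn
    show IsZero ((mappingCone _).X n)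
    rw [mappingCone.isZero_X_iff]
    simp only [List.length_cons, Nat.cast_add, Nat.cast_one] at hn
    exact ⟨ih _ (by omega), ih _ (by omega)⟩

section
variable {M : ModuleCat.{u} A} (f : A) (fs : List A)

theorem cone_ext {n : ℤ} {z z' : K(f :: fs, M).X n}
    (h₁ : (mappingCone.fst (f • 𝟙 K(fs, M))).1.v n (n + 1) rfl z =
      (mappingCone.fst (f • 𝟙 K(fs, M))).1.v n (n + 1) rfl z')
    (h₂ : (mappingCone.snd (f • 𝟙 K(fs, M))).v n n (add_zero n) z =
      (mappingCone.snd (f • 𝟙 K(fs, M))).v n n (add_zero n) z') : z = z' := by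
  have e := mappingCone.id_X (f • 𝟙 K(fs, M)) n (n + 1) rfl
  have ez := fun w => (ConcreteCategory.congr_hom e w).symm
  exact (ez z).symm.symm.trans (Eq.trans (by
    show (mappingCone.inl (f • 𝟙 K(fs, M))).v (n + 1) n (by omega) _ +
        (mappingCone.inr (f • 𝟙 K(fs, M))).f n _ =
      (mappingCone.inl (f • 𝟙 K(fs, M))).v (n + 1) n (by omega) _ +
        (mappingCone.inr (f • 𝟙 K(fs, M))).f n _
    exact congrArg₂ (· + ·) (congrArg _ h₁) (congrArg _ h₂)) (ez z').symm)

end

/-- A short exact sequence of modules gives a short exact sequence of Koszul complexes. -/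
theorem kmap_shortExact {M₁ M₂ M₃ : ModuleCat.{u} A} (g : M₁ ⟶ M₂) (g' : M₂ ⟶ M₃) (hz : g ≫ g' = 0)
    (hS : (ShortComplex.mk g g' hz).ShortExact) :
    ∀ fs : List A, ∃ hz' : kmap g fs ≫ kmap g' fs = 0,
      (ShortComplex.mk (kmap g fs) (kmap g' fs) hz').ShortExact := by
  intro fs
  induction fs with
  | nil =>
    have hz' : kmap g [] ≫ kmap g' [] = 0 := by
      show (HomologicalComplex.single _ _ 0).map g ≫ (HomologicalComplex.single _ _ 0).map g' = 0
      rw [← Functor.map_comp, hz, Functor.map_zero]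
    refine ⟨hz', ?_⟩
    exact hS.map_of_exact (HomologicalComplex.single (ModuleCat.{u} A) (ComplexShape.up ℤ) 0)
  | cons f fs ih =>
    obtain ⟨hz', hK⟩ := ih
    have hd : ∀ n, ((ShortComplex.mk (kmap g fs) (kmap g' fs) hz').map
        (HomologicalComplex.eval _ _ n)).ShortExact := fun n => hK.map_of_exact _
    have hz'' : kmap g (f :: fs) ≫ kmap g' (f :: fs) = 0 := by
      exact coneMap_comp_zero _ _ _ _ _ _ _ _ _ hz' hz'
    refine ⟨hz'', HomologicalComplex.shortExact_of_degreewise_shortExact _ fun n => ?_⟩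
    have hl : ∀ {P Q : ModuleCat.{u} A} (g₀ : P ⟶ Q) (z : K(f :: fs, P).X n),
        (mappingCone.fst (f • 𝟙 K(fs, Q))).1.v n (n + 1) rfl ((kmap g₀ (f :: fs)).f n z) =
          (kmap g₀ fs).f (n + 1) ((mappingCone.fst (f • 𝟙 K(fs, P))).1.v n (n + 1) rfl z) ∧
        (mappingCone.snd (f • 𝟙 K(fs, Q))).v n n (add_zero n) ((kmap g₀ (f :: fs)).f n z) =
          (kmap g₀ fs).f n ((mappingCone.snd (f • 𝟙 K(fs, P))).v n n (add_zero n) z) := by
      intro P Q g₀ z
      have e₁ : (kmap g₀ (f :: fs)).f n ≫ (mappingCone.fst (f • 𝟙 K(fs, Q))).1.v n (n + 1) rfl =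
          (mappingCone.fst (f • 𝟙 K(fs, P))).1.v n (n + 1) rfl ≫ (kmap g₀ fs).f (n + 1) := by
        show (mappingCone.map _ _ _ _ _).f n ≫ _ = _
        simp [mappingCone.ext_from_iff _ (n + 1) n rfl, mappingCone.map]
      have e₂ : (kmap g₀ (f :: fs)).f n ≫ (mappingCone.snd (f • 𝟙 K(fs, Q))).v n n (add_zero n) =
          (mappingCone.snd (f • 𝟙 K(fs, P))).v n n (add_zero n) ≫ (kmap g₀ fs).f n := by
        show (mappingCone.map _ _ _ _ _).f n ≫ _ = _
        simp [mappingCone.ext_from_iff _ (n + 1) n rfl, mappingCone.map]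
      exact ⟨ConcreteCategory.congr_hom e₁ z, ConcreteCategory.congr_hom e₂ z⟩
    have hinj : ∀ m, Function.Injective ((kmap g fs).f m) := fun m =>
      (ModuleCat.mono_iff_injective _).1 (hd m).mono_f
    have hsurj : ∀ m, Function.Surjective ((kmap g' fs).f m) := fun m =>
      (ModuleCat.epi_iff_surjective _).1 (hd m).epi_g
    have hex : ∀ m, Function.Exact ((kmap g fs).f m) ((kmap g' fs).f m) := fun m =>
      (ShortComplex.ShortExact.moduleCat_exact_iff_function_exact _).1 (hd m).exact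
    have inlfst : ∀ {P : ModuleCat.{u} A} (x : K(fs, P).X (n + 1)),
        (mappingCone.fst (f • 𝟙 K(fs, P))).1.v n (n + 1) rfl
          ((mappingCone.inl (f • 𝟙 K(fs, P))).v (n + 1) n (by omega) x) = x := fun x =>
      ConcreteCategory.congr_hom (mappingCone.inl_v_fst_v _ (n + 1) n rfl) x
    have inrfst : ∀ {P : ModuleCat.{u} A} (y : K(fs, P).X n),
        (mappingCone.fst (f • 𝟙 K(fs, P))).1.v n (n + 1) rfl
          ((mappingCone.inr (f • 𝟙 K(fs, P))).f n y) = 0 := fun y =>
      ConcreteCategory.congr_hom (mappingCone.inr_f_fst_v _ n (n + 1) rfl) y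
    have inlsnd : ∀ {P : ModuleCat.{u} A} (x : K(fs, P).X (n + 1)),
        (mappingCone.snd (f • 𝟙 K(fs, P))).v n n (add_zero n)
          ((mappingCone.inl (f • 𝟙 K(fs, P))).v (n + 1) n (by omega) x) = 0 := fun x =>
      ConcreteCategory.congr_hom (mappingCone.inl_v_snd_v (f • 𝟙 K(fs, _)) (n + 1) n (show n + 1 + (-1) = n by omega)) x
    have inrsnd : ∀ {P : ModuleCat.{u} A} (y : K(fs, P).X n),
        (mappingCone.snd (f • 𝟙 K(fs, P))).v n n (add_zero n)
          ((mappingCone.inr (f • 𝟙 K(fs, P))).f n y) = y := fun y =>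
      ConcreteCategory.congr_hom (mappingCone.inr_f_snd_v _ n) y
    refine { exact := ?_, mono_f := (ModuleCat.mono_iff_injective _).2 fun a b hab => ?_,
             epi_g := (ModuleCat.epi_iff_surjective _).2 fun z => ?_ }
    · rw [ShortComplex.ShortExact.moduleCat_exact_iff_function_exact]
      intro z
      constructor
      · intro hz₀
        obtain ⟨x, hx⟩ := (hex (n + 1) _).1 ((hl g' z).1.symm.trans ((congrArg _ hz₀).trans (map_zero _)))
        obtain ⟨y, hy⟩ := (hex n _).1 ((hl g' z).2.symm.trans ((congrArg _ hz₀).trans (map_zero _)))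
        refine ⟨(mappingCone.inl (f • 𝟙 K(fs, M₁))).v (n + 1) n (by omega) x +
          (mappingCone.inr (f • 𝟙 K(fs, M₁))).f n y, cone_ext f fs ?_ ?_⟩
        · exact (hl g _).1.trans (by rw [map_add, inlfst, inrfst, add_zero, hx])
        · exact (hl g _).2.trans (by rw [map_add, inlsnd, inrsnd, zero_add, hy])
      · rintro ⟨w, rfl⟩
        exact ConcreteCategory.congr_hom (congrArg (fun φ => φ.f n) hz'') w
    · exact cone_ext f fs (hinj _ ((hl g a).1.symm.trans ((congrArg _ hab).trans (hl g b).1)))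
        (hinj _ ((hl g a).2.symm.trans ((congrArg _ hab).trans (hl g b).2)))
    · obtain ⟨x, hx⟩ := hsurj (n + 1) ((mappingCone.fst (f • 𝟙 K(fs, M₃))).1.v n (n + 1) rfl z)
      obtain ⟨y, hy⟩ := hsurj n ((mappingCone.snd (f • 𝟙 K(fs, M₃))).v n n (add_zero n) z)
      refine ⟨(mappingCone.inl (f • 𝟙 K(fs, M₂))).v (n + 1) n (by omega) x +
        (mappingCone.inr (f • 𝟙 K(fs, M₂))).f n y, cone_ext f fs ?_ ?_⟩
      · exact (hl g' _).1.trans (by rw [map_add, inlfst, inrfst, add_zero, hx])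
      · exact (hl g' _).2.trans (by rw [map_add, inlsnd, inrsnd, zero_add, hy])

/-- Multiplication by a nonzerodivisor and its cokernel. -/
theorem isZero_homology_of_isWeaklyRegular : ∀ (fs : List A) (M : ModuleCat.{u} A),
    RingTheory.Sequence.IsWeaklyRegular M fs → ∀ q : ℤ, q ≠ 0 → IsZero (K(fs, M).homology q) := by
  intro fs
  induction fs with
  | nil =>
    intro M _ q hq
    exact ShortComplex.isZero_homology_of_isZero_X₂ _ (isZero_X M [] q (by simp; omega))
  | cons f fs ih =>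
    intro M hreg q hq
    rw [RingTheory.Sequence.isWeaklyRegular_cons_iff] at hreg
    let M' : ModuleCat.{u} A := ModuleCat.of A (QuotSMulTop f M)
    let π : M ⟶ M' := ModuleCat.ofHom (Y := QuotSMulTop f M) (Submodule.mkQ _)
    have hz : (f • 𝟙 M) ≫ π = 0 := ModuleCat.hom_ext (LinearMap.ext fun x =>
      (Submodule.Quotient.mk_eq_zero _).2 (Submodule.smul_mem_pointwise_smul x f ⊤ trivial))
    have hS : (ShortComplex.mk _ _ hz).ShortExact :=
      { exact := (ShortComplex.ShortExact.moduleCat_exact_iff_function_exact _).2 fun x => by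
          refine ⟨fun hx => ?_, ?_⟩
          · obtain ⟨y, -, hy⟩ := Submodule.mem_map.1 ((Submodule.Quotient.mk_eq_zero _).1 hx)
            exact ⟨y, hy⟩
          · rintro ⟨y, rfl⟩
            exact ConcreteCategory.congr_hom hz y
        mono_f := (ModuleCat.mono_iff_injective _).2 fun a b h => hreg.1 h
        epi_g := (ModuleCat.epi_iff_surjective _).2 (Submodule.mkQ_surjective _) }
    obtain ⟨hz', hK⟩ := kmap_shortExact _ _ hz hS fs
    have hq' := mappingCone.quasiIso_descShortComplex hK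
    have e : mappingCone (kmap (f • 𝟙 M) fs) = K(f :: fs, M) := by rw [kmap_smul]; rfl
    refine IsZero.of_iso (ih M' hreg.2 q hq) ?_
    exact (HomologicalComplex.homologyMapIso (eqToIso e.symm) q) ≪≫
      asIso (HomologicalComplex.homologyMap (mappingCone.descShortComplex
        (ShortComplex.mk (kmap (f • 𝟙 M) fs) (kmap π fs) hz')) q)

theorem isZero_homology_of_span_eq_top (fs : List A) (hfs : Ideal.span {a | a ∈ fs} = ⊤)
    (M : ModuleCat.{u} A) (q : ℤ) : IsZero (K(fs, M).homology q) := by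
  obtain ⟨H⟩ := homotopy_of_mem M fs 1 (hfs ▸ Submodule.mem_top)
  rw [IsZero.iff_id_eq_zero, ← HomologicalComplex.homologyMap_id, ← one_smul A (𝟙 K(fs, M)),
    H.homologyMap_eq, HomologicalComplex.homologyMap_zero]

/-- The top degree surjects onto `M/IM` with kernel the boundaries. -/
theorem exists_top (M : ModuleCat.{u} A) :
    ∀ fs : List A, ∃ π : K(fs, M).X 0 →ₗ[A] M ⧸ (Ideal.ofList fs • (⊤ : Submodule A M)),
      Function.Surjective π ∧ LinearMap.ker π = LinearMap.range (K(fs, M).d (-1) 0).hom := by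
  intro fs
  induction fs with
  | nil =>
    let e : K(([] : List A), M).X 0 ≃ₗ[A] M :=
      (HomologicalComplex.singleObjXSelf (ComplexShape.up ℤ) 0 M).toLinearEquiv
    refine ⟨(Submodule.mkQ _).comp e.toLinearMap, (Submodule.mkQ_surjective _).comp e.surjective, ?_⟩
    have h0 : K(([] : List A), M).d (-1) 0 = 0 :=
      (isZero_X M [] (-1) (by simp)).eq_of_src _ _
    rw [h0, LinearMap.ker_comp, Submodule.ker_mkQ, Ideal.ofList_nil, Submodule.bot_smul]
    refine le_antisymm (fun x hx => ?_) (by simp)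
    rw [show x = 0 from e.map_eq_zero_iff.1 ((Submodule.mem_bot A).1 hx)]
    exact zero_mem _
  | cons f fs ih =>
    obtain ⟨π, hπ, hker⟩ := ih
    let I := (Ideal.ofList fs • (⊤ : Submodule A M) : Submodule A M)
    let J := (Ideal.ofList (f :: fs) • (⊤ : Submodule A M) : Submodule A M)
    have hIJ : I ≤ J := Submodule.smul_mono (by rw [Ideal.ofList_cons]; exact le_sup_right) le_rfl
    let φ := f • 𝟙 K(fs, M)
    let s : K(f :: fs, M).X 0 →ₗ[A] K(fs, M).X 0 := ((mappingCone.snd φ).v 0 0 (add_zero 0)).hom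
    have hr : ∀ y, s ((mappingCone.inr φ).f 0 y) = y := fun y =>
      ConcreteCategory.congr_hom (mappingCone.inr_f_snd_v φ 0) y
    refine ⟨(Submodule.factor hIJ).comp (π.comp s), fun m => ?_, ?_⟩
    · obtain ⟨m', rfl⟩ := Submodule.factor_surjective hIJ m
      obtain ⟨y, rfl⟩ := hπ m'
      exact ⟨(mappingCone.inr φ).f 0 y, by rw [LinearMap.comp_apply, LinearMap.comp_apply, hr]⟩
    have hd : ∀ w : K(f :: fs, M).X (-1), s (K(f :: fs, M).d (-1) 0 w) =
        f • (mappingCone.fst φ).1.v (-1) 0 (by norm_num) w +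
          K(fs, M).d (-1) 0 ((mappingCone.snd φ).v (-1) (-1) (add_zero _) w) := fun w => by
      have := ConcreteCategory.congr_hom (mappingCone.d_snd_v φ (-1) 0 (by norm_num)) w
      exact this
    refine le_antisymm (fun z hz => ?_) ?_
    · obtain ⟨m, hm⟩ := Submodule.Quotient.mk_surjective _ (π (s z))
      have hmJ : m ∈ J := by
        rw [LinearMap.mem_ker, LinearMap.comp_apply, LinearMap.comp_apply, ← hm] at hz
        exact (Submodule.Quotient.mk_eq_zero _).1 hz
      simp only [J, Ideal.ofList_cons, Submodule.sup_smul] at hmJ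
      obtain ⟨a, ha, b, hb, rfl⟩ := Submodule.mem_sup.1 hmJ
      rw [Submodule.ideal_span_singleton_smul] at ha
      obtain ⟨a', -, rfl⟩ := Submodule.mem_map.1 ha
      obtain ⟨y, hy⟩ := hπ (Submodule.Quotient.mk a')
      have : s z - f • y ∈ LinearMap.ker π := by
        rw [LinearMap.mem_ker, map_sub, map_smul, hy, ← hm, ← Submodule.Quotient.mk_smul,
          ← Submodule.Quotient.mk_sub, Submodule.Quotient.mk_eq_zero]
        simpa using hb
      rw [hker] at this
      obtain ⟨v, hv⟩ := this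
      refine ⟨(mappingCone.inl φ).v 0 (-1) (by norm_num) y + (mappingCone.inr φ).f (-1) v,
        cone_ext f fs ?_ ?_⟩
      · have h1 : IsZero (K(fs, M).X 1) := isZero_X M fs 1 (by omega)
        exact (ModuleCat.subsingleton_of_isZero h1).elim _ _
      · refine (hd _).trans ?_
        rw [map_add, map_add]
        erw [ConcreteCategory.congr_hom (mappingCone.inl_v_fst_v φ 0 (-1) (by norm_num)) y,
          ConcreteCategory.congr_hom (mappingCone.inr_f_fst_v φ (-1) 0 (by norm_num)) v,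
          ConcreteCategory.congr_hom (mappingCone.inl_v_snd_v φ 0 (-1) (by norm_num)) y,
          ConcreteCategory.congr_hom (mappingCone.inr_f_snd_v φ (-1)) v]
        simp [hv]
        rfl
    · rintro _ ⟨w, rfl⟩
      rw [LinearMap.mem_ker, LinearMap.comp_apply, LinearMap.comp_apply, hd, map_add, map_smul,
        show π (K(fs, M).d (-1) 0 _) = 0 from LinearMap.mem_ker.1 (hker ▸ ⟨_, rfl⟩), add_zero, map_smul]
      obtain ⟨m, hm⟩ := Submodule.Quotient.mk_surjective _ (π ((mappingCone.fst φ).1.v (-1) 0 (by norm_num) w))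
      rw [← hm]
      show Submodule.Quotient.mk (f • m) = (0 : M ⧸ J)
      rw [Submodule.Quotient.mk_eq_zero]
      have hf : f ∈ Ideal.ofList (f :: fs) := by
        rw [Ideal.ofList_cons]; exact Ideal.mem_sup_left (Ideal.mem_span_singleton_self f)
      exact Submodule.smul_mem_smul hf trivial

theorem nonempty_top_equiv (fs : List A) (M : ModuleCat.{u} A) :
    Nonempty (K(fs, M).homology 0 ≃ₗ[A] M ⧸ (Ideal.ofList fs • (⊤ : Submodule A M))) := by
  obtain ⟨π, hπ, hker⟩ := exists_top M fs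
  have h1 : IsZero (K(fs, M).X 1) := isZero_X M fs 1 (by omega)
  let S := K(fs, M).sc' (-1) 0 1
  have hg : LinearMap.ker S.g.hom = ⊤ := by
    rw [LinearMap.ker_eq_top]
    exact ModuleCat.hom_ext_iff.1 (h1.eq_of_tgt S.g 0)
  let e : K(fs, M).homology 0 ≅ ModuleCat.of A (LinearMap.ker S.g.hom ⧸ LinearMap.range S.moduleCatToCycles) :=
    K(fs, M).homologyIsoSc' (-1) 0 1 (by simp) (by simp) ≪≫ S.moduleCatHomologyIso
  suffices h : Nonempty ((LinearMap.ker S.g.hom ⧸ LinearMap.range S.moduleCatToCycles) ≃ₗ[A]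
      M ⧸ (Ideal.ofList fs • (⊤ : Submodule A M))) by
    obtain ⟨h⟩ := h
    exact ⟨(e ≪≫ h.toModuleIso).toLinearEquiv⟩
  let π' : S.X₂ →ₗ[A] M ⧸ (Ideal.ofList fs • (⊤ : Submodule A M)) := π
  refine ⟨LinearEquiv.ofBijective ((LinearMap.range S.moduleCatToCycles).liftQ
    (π'.comp (LinearMap.ker S.g.hom).subtype) ?_) ⟨?_, fun m => ?_⟩⟩
  · rintro _ ⟨w, rfl⟩
    exact LinearMap.mem_ker.1 (hker.ge ⟨w, rfl⟩)
  · rw [← LinearMap.ker_eq_bot, Submodule.ker_liftQ_eq_bot']
    refine le_antisymm ?_ fun z hz => ?_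
    · rintro _ ⟨w, rfl⟩
      exact LinearMap.mem_ker.1 (hker.ge ⟨w, rfl⟩)
    · obtain ⟨w, hw⟩ := hker.le (show (z.1 : K(fs, M).X 0) ∈ LinearMap.ker π from hz)
      exact ⟨w, Subtype.ext hw⟩
  · obtain ⟨y, rfl⟩ := hπ m
    exact ⟨Submodule.Quotient.mk ⟨y, hg.ge trivial⟩, rfl⟩

end Groth.Agent.Koszul15
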